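import Cfsg.Agent.H535.Ore.ONCert
import Cfsg.Agent.H535.K4.ONFam
import Cfsg.Agent.H210.On7.Loc
import Cfsg.Agent.H680.ONThirtyOne
import Cfsg.Agent.H65.Ore.Split
import Cfsg.Agent.H777.Ore.Base

/-!
# S2443, S4171: the rows of the O'Nan group (helper535)

* `deg_ge` : the nonprincipal characters of degree `± 1 (11)` have degree at least 3255;
* `ore_on` : every element of `O'N` is a commutator;
* `four_on` : every element of `O'N` is a product of four elements of square one.
Both by the class structure constants of two elements of order 11: `10 * 175616 < 3255 ^ 2`.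
-/

set_option autoImplicit false

open Cfsg Subgroup
open scoped ComplexConjugate

namespace Cfsg.Agent.H535.Ore.ON

open Cfsg.Agent.Characters.Core
open Cfsg.Agent.H653.Sieve (deg deg_cast one_of_deg)
open Cfsg.Agent.H653.Sys
open Cfsg.Agent.H210.On7 (Data)
open Cfsg.Agent.H535.K4.ON
open Cfsg.Agent.H65.Ore (Prd)
open Cfsg.Agent.H777.Ore

universe u

section

variable {G : Type u} [Group G] [Finite G]

/-- the system -/
theorem exists_sys' [IsSimpleGroup G] (hG : ¬ IsMulCommutative G) [Fintype (IrrCharacter G)] (Δ : Data G) :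
    ∃ Ws : List (IrrCharacter G → ℤ), SysOK (fun g : G => orderOf g) Gs Ws := by
  obtain ⟨A, B, C, T, F, u, hA, hB, hC, h3, vF, hmem⟩ := exists_pieces hG Δ
  refine ⟨[A] ++ ([B] ++ ([C] ++ ([T, F, u] ++ []))), .cons hA (.cons hB (.cons hC (.cons ⟨h3.cols, fun χ => ?_⟩ .nil)))⟩
  refine List.mem_filter.2 ⟨hmem χ, ?_⟩
  have h1 := SmallSimple.InvolColumn.dvd_index_mul χ.2 (vF χ)
  have hi : (centralizer ({Δ.y} : Set G)).index = 2560086144 := by
    have h2 := (centralizer ({Δ.y} : Set G)).card_mul_index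
    rw [Δ.cy, Δ.card] at h2
    omega
  rw [hi] at h1
  rw [Nat.beq_eq]
  apply Nat.mod_eq_zero_of_dvd
  have h2 : (deg χ : ℤ).natAbs ∣ (((2560086144 : ℕ) : ℤ) * F χ).natAbs := Int.natAbs_dvd_natAbs.2 h1
  rw [Int.natAbs_natCast, Int.natAbs_mul, Int.natAbs_natCast, mul_comm] at h2
  exact h2

omit [Finite G] in
theorem not_prime (Δ : Data G) : ¬ (Nat.card G).Prime := by
  rw [Δ.card]
  exact fun h => absurd (h.eq_one_or_self_of_dvd 2 (by norm_num)) (by norm_num)

/-- exclusion of a degree -/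
theorem no_deg [IsSimpleGroup G] (hG : ¬ IsMulCommutative G) (Δ : Data G) (d : ℕ) (a m : ℤ) (hm : m ≤ 0)
    (cs : List H653.Sieve.Cf) (hc : certOK NN a cs [⟨fun x => Nat.beq x d, m, m⟩] Gs = true)
    (hall : H653.Sieve.allDiv NN (okD NN a cs [⟨fun x => Nat.beq x d, m, m⟩] Gs (fun _ => false)) facs 1 = true)
    (χ : IrrCharacter G) : deg χ ≠ d := by
  intro hd
  have := finite_irr (G := G)
  have := Fintype.ofFinite (IrrCharacter G)
  obtain ⟨Ws, hs⟩ := exists_sys' hG Δ
  obtain ⟨ψ, -, h2⟩ := exists_of_cert (lab := fun g : G => orderOf g) (fun g h hc => isConj_order hc) orderOf_one NN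
    Δ.card facs facs_prime facs_prod (fun χ h => one_of_deg (not_prime Δ) χ h) hs _ (by
      intro e he
      rw [List.mem_singleton] at he
      rw [he]
      exact Ex.of_exists ⟨χ, by rw [Nat.beq_eq]; exact hd⟩ hm) a cs _ hc hall
  exact Bool.false_ne_true h2

/-- **The nonprincipal characters of degree `± 1 (11)` have degree at least 3255.** -/
theorem deg_ge [IsSimpleGroup G] (hG : ¬ IsMulCommutative G) (Δ : Data G) (χ : IrrCharacter G) (h1 : (χ : G → ℂ) ≠ 1)
    (h11 : charDegree (χ : G → ℂ) % 11 = 1 ∨ charDegree (χ : G → ℂ) % 11 = 10) : 3255 ≤ charDegree (χ : G → ℂ) := by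
  classical
  have := finite_irr (G := G)
  have := Fintype.ofFinite (IrrCharacter G)
  obtain ⟨Ws, hs⟩ := exists_sys' hG Δ
  have hN : Nat.card G = NN := Δ.card
  have hne1 : deg χ ≠ 1 := fun h => h1 (one_of_deg (not_prime Δ) χ h)
  have hdvd : deg χ ∣ H653.Sieve.facProd facs := by
    rw [facs_prod, ← hN]
    exact Blocks.Knorr.charDegree_dvd χ.2
  have hlt : deg χ * deg χ < NN := by
    have hsq : ∑ χ : IrrCharacter G, deg χ * deg χ = NN := by
      have h3 := SmallSimple.DegreeData.sum_sq (G := G)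
      rw [← hN, ← h3]
      exact Finset.sum_congr rfl fun χ _ => by unfold deg; ring
    have hχ₁ : ∃ χ₁ : IrrCharacter G, (χ₁ : G → ℂ) = 1 := ⟨⟨1, isIrr_one⟩, rfl⟩
    obtain ⟨χ₁, hχ₁⟩ := hχ₁
    have hne : χ ≠ χ₁ := fun h => h1 (by rw [h, hχ₁])
    have hd1 : deg χ₁ = 1 := by
      unfold deg charDegree
      rw [hχ₁]
      simp
    have h4 : ∑ χ' ∈ ({χ, χ₁} : Finset (IrrCharacter G)), deg χ' * deg χ' ≤
        ∑ χ' : IrrCharacter G, deg χ' * deg χ' :=
      Finset.sum_le_sum_of_subset (Finset.subset_univ _)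
    rw [Finset.sum_pair hne, hsq, hd1] at h4
    omega
  have hpr : ∀ pa ∈ facs, pa.1.Prime := by
    intro pa hpa
    have := List.all_eq_true.1 facs_prime pa hpa
    simpa using this
  have h3 := H653.Sieve.allDiv_spec hpr chk_all (deg χ) hdvd (by rwa [one_mul])
  rw [one_mul, chk] at h3
  simp only [Bool.or_eq_true, Bool.not_eq_true', Bool.or_eq_false_iff] at h3
  rcases h3 with ((((((h3 | h3) | h3) | h3) | h3) | h3) | h3) | h3
  · exact absurd (Nat.le_of_ble_eq_true h3) (by omega)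
  · exact absurd (Nat.eq_of_beq_eq_true h3) hne1
  · exact absurd (Nat.eq_of_beq_eq_true h3) (no_deg hG Δ 32 a_32 m_32 (by norm_num [m_32]) cs_32 cert_32 all_32 χ)
  · exact absurd (Nat.eq_of_beq_eq_true h3) (no_deg hG Δ 837 a_837 m_837 (by norm_num [m_837]) cs_837 cert_837 all_837 χ)
  · exact absurd (Nat.eq_of_beq_eq_true h3)
      (no_deg hG Δ 1178 a_1178 m_1178 (by norm_num [m_1178]) cs_1178 cert_1178 all_1178 χ)
  · exact Nat.le_of_ble_eq_true h3
  · exfalso
    rcases h11 with h | h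
    · have h5 : Nat.beq (deg χ % 11) 1 = true := by rw [Nat.beq_eq]; exact h
      rw [h5] at h3
      exact Bool.noConfusion h3.1
    · have h5 : Nat.beq (deg χ % 11) 10 = true := by rw [Nat.beq_eq]; exact h
      rw [h5] at h3
      exact Bool.noConfusion h3.2
  · exact absurd (allV_spec hs χ h3) Bool.false_ne_true

theorem chk11 : H65.Ore.chkSC 460815505920 11 10 1 11 = true := by decide +kernel

/-- products of two elements of order 11 -/
theorem prd [IsSimpleGroup G] (hG : ¬ IsMulCommutative G) (Δ : Data G) {x y : G} (hx : orderOf x = 11)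
    (hy : orderOf y = 11) {g : G} (hg : Nat.card (centralizer ({g} : Set G)) ≤ 175616) : Prd x y g := by
  have hcx : Nat.card (centralizer ({x} : Set G)) = 11 := by
    have h1 := (Δ.h11 (zpowers x) (by rw [Nat.card_zpowers, hx])).1
    rwa [zpowers_eq_closure, centralizer_closure] at h1
  refine H65.Ore.prd_all hG (by norm_num) Δ.card hx hcx 10 1 11 chk11 (DN := 3255) (DX := 3255) (c := 175616)
    (fun χ h1 h => deg_ge hG Δ χ h1 h) (fun χ h1 h => deg_ge hG Δ χ h1 (Or.symm h)) (by norm_num) (by norm_num) hy hg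

/-- an inverting involution -/
theorem inverts {x t : G} {p : ℕ} (hp : p.Prime) (hx : orderOf x = p) (ht : t * t = 1) (h : t * x * t⁻¹ ∈ zpowers x)
    (hc : t * x ≠ x * t) : t * x * t⁻¹ = x⁻¹ := by
  have ht' : t⁻¹ = t := inv_eq_of_mul_eq_one_left ht
  obtain ⟨z, hz⟩ : ∃ z, z = x * (t * x * t⁻¹) := ⟨_, rfl⟩
  have hzx : z ∈ zpowers x := by rw [hz]; exact mul_mem (mem_zpowers x) h
  have hcomm : (t * x * t⁻¹) * x = x * (t * x * t⁻¹) := by
    obtain ⟨i, hi⟩ := h
    have hi' : x ^ i = t * x * t⁻¹ := hi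
    rw [← hi']
    exact ((Commute.refl x).zpow_left i).eq
  have h1 : t * z = z * t := by
    have h2 : t * z * t⁻¹ = z := by
      calc t * z * t⁻¹ = (t * x * t⁻¹) * (t * t * x * (t * t)⁻¹) := by rw [hz]; group
        _ = (t * x * t⁻¹) * x := by rw [ht]; simp
        _ = z := by rw [hcomm, hz]
    rwa [mul_inv_eq_iff_eq_mul] at h2
  have hz1 : z = 1 := by
    by_contra hne
    apply hc
    have : Fact p.Prime := ⟨hp⟩
    have hcard : Nat.card (zpowers x) = p := by rw [Nat.card_zpowers, hx]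
    have hgen : zpowers z = zpowers x := by
      apply Subgroup.eq_of_le_of_card_ge (zpowers_le.2 hzx)
      have h3 : orderOf z = p := by
        have h4 : orderOf z ∣ p := by
          rw [← hcard]
          have := orderOf_dvd_natCard (⟨z, hzx⟩ : zpowers x)
          rwa [← Subgroup.orderOf_coe] at this
        rcases (Nat.dvd_prime hp).1 h4 with h5 | h5
        · exact absurd (orderOf_eq_one_iff.1 h5) hne
        · exact h5
      rw [hcard, Nat.card_zpowers, h3]
    have hxz : x ∈ zpowers z := by rw [hgen]; exact mem_zpowers x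
    obtain ⟨i, hi⟩ := hxz
    have hi' : z ^ i = x := hi
    rw [← hi']
    exact ((show Commute t z from h1).zpow_right i).eq
  have h2 : x * (t * x * t⁻¹) = 1 := by rw [← hz, hz1]
  exact (inv_eq_of_mul_eq_one_right h2).symm

omit [Finite G] in
/-- products of four elements of square one -/
theorem i4_of_prd {x t g : G} (ht : t * t = 1) (hi : t * x * t⁻¹ = x⁻¹) (h : Prd x x g) : I4 g := by
  obtain ⟨a, b, rfl⟩ := h
  have ht' : t⁻¹ = t := inv_eq_of_mul_eq_one_left ht
  rw [ht'] at hi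
  have h1 : (t * x) * (t * x) = 1 := by
    calc (t * x) * (t * x) = (t * x * t) * x := by group
      _ = 1 := by rw [hi]; group
  have key : ∀ c s : G, s * s = 1 → (c * s * c⁻¹) * (c * s * c⁻¹) = 1 := by
    intro c s hs
    calc (c * s * c⁻¹) * (c * s * c⁻¹) = c * (s * s) * c⁻¹ := by group
      _ = 1 := by rw [hs]; group
  refine ⟨a * t * a⁻¹, a * (t * x) * a⁻¹, b * t * b⁻¹, b * (t * x) * b⁻¹, key _ _ ht, key _ _ h1, key _ _ ht, key _ _ h1, ?_⟩
  calc a * x * a⁻¹ * (b * x * b⁻¹) = a * (1 * x) * a⁻¹ * (b * (1 * x) * b⁻¹) := by group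
    _ = a * (t * t * x) * a⁻¹ * (b * (t * t * x) * b⁻¹) := by rw [ht]
    _ = _ := by group

end

/-! ### the centralizers -/

open Cfsg.Spor (ON)
open Cfsg.Spor.ON (Gen)
open Cfsg.Agent.SporadicB.ON45Word (on)
open Cfsg.Agent.KFacts.ON.Cent (hON finite_ON card_cent)
open Cfsg.Agent.H474.ONC
open Cfsg.Agent.H210.On7 (card_cent_three no_three card_cent_nineteen thirtyone)

theorem cent_seven {g : ON} (hg : orderOf g = 7) : Nat.card (centralizer ({g} : Set ON)) ≤ 175616 := by
  have hfin := finite_ON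
  have h3 : ¬ 3 ∣ Nat.card ↥(centralizer ({g} : Set ON)) := no_three hg (by norm_num)
  have h5 : ¬ 5 ∣ Nat.card ↥(centralizer ({g} : Set ON)) := no_five hg (by norm_num)
  have h11 : ¬ 11 ∣ Nat.card ↥(centralizer ({g} : Set ON)) := no_eleven hg (by norm_num)
  have h19 : ¬ 19 ∣ Nat.card ↥(centralizer ({g} : Set ON)) := by
    intro h
    obtain ⟨u, hu, hug⟩ := exists_comm (by norm_num : Nat.Prime 19) h
    have h1 := dvd_cent hug.symm
    rw [card_cent_nineteen hu, hg] at h1
    norm_num at h1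
  have h31 : ¬ 31 ∣ Nat.card ↥(centralizer ({g} : Set ON)) := by
    intro h
    obtain ⟨u, hu, hug⟩ := exists_comm (by norm_num : Nat.Prime 31) h
    have h1 := dvd_cent hug.symm
    rw [(thirtyone hu).1, hg] at h1
    norm_num at h1
  obtain ⟨a, b, c, d, e, f, k, ha, hb, hc, hd, he, hf, hk, hs⟩ := shape (cent_dvd g)
  rw [hs] at h3 h5 h11 h19 h31 ⊢
  have hb0 : b = 0 := by
    by_contra h
    apply h3
    obtain ⟨m, rfl⟩ := Nat.exists_eq_succ_of_ne_zero h
    exact ⟨2 ^ a * (3 ^ m * (5 ^ c * (7 ^ d * (11 ^ e * (19 ^ f * 31 ^ k))))), by rw [pow_succ]; ring⟩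
  have hc0 : c = 0 := by
    by_contra h
    apply h5
    obtain ⟨m, rfl⟩ := Nat.exists_eq_succ_of_ne_zero h
    exact ⟨2 ^ a * (3 ^ b * (5 ^ m * (7 ^ d * (11 ^ e * (19 ^ f * 31 ^ k))))), by rw [pow_succ]; ring⟩
  have he0 : e = 0 := by
    by_contra h
    apply h11
    obtain ⟨m, rfl⟩ := Nat.exists_eq_succ_of_ne_zero h
    exact ⟨2 ^ a * (3 ^ b * (5 ^ c * (7 ^ d * (11 ^ m * (19 ^ f * 31 ^ k))))), by rw [pow_succ]; ring⟩
  have hf0 : f = 0 := by
    by_contra h
    apply h19
    obtain ⟨m, rfl⟩ := Nat.exists_eq_succ_of_ne_zero h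
    exact ⟨2 ^ a * (3 ^ b * (5 ^ c * (7 ^ d * (11 ^ e * (19 ^ m * 31 ^ k))))), by rw [pow_succ]; ring⟩
  have hk0 : k = 0 := by
    by_contra h
    apply h31
    obtain ⟨m, rfl⟩ := Nat.exists_eq_succ_of_ne_zero h
    exact ⟨2 ^ a * (3 ^ b * (5 ^ c * (7 ^ d * (11 ^ e * (19 ^ f * 31 ^ m))))), by rw [pow_succ]; ring⟩
  subst hb0 hc0 he0 hf0 hk0
  calc 2 ^ a * (3 ^ 0 * (5 ^ 0 * (7 ^ d * (11 ^ 0 * (19 ^ 0 * 31 ^ 0))))) = 2 ^ a * 7 ^ d := by ring
    _ ≤ 2 ^ 9 * 7 ^ 3 := Nat.mul_le_mul (Nat.pow_le_pow_right (by norm_num) ha) (Nat.pow_le_pow_right (by norm_num) hd)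
    _ = 175616 := by norm_num

theorem cases_on {p : ℕ} (hp : p.Prime) (h : p ∣ 460815505920) :
    p = 2 ∨ p = 3 ∨ p = 5 ∨ p = 7 ∨ p = 11 ∨ p = 19 ∨ p = 31 := by
  rw [show (460815505920 : ℕ) = 2 ^ 9 * 3 ^ 4 * 5 * 7 ^ 3 * 11 * 19 * 31 by norm_num] at h
  have key : ∀ {r : ℕ}, r.Prime → p ∣ r → p = r := fun hr hd => (Nat.prime_dvd_prime_iff_eq hp hr).1 hd
  rcases hp.dvd_mul.1 h with h | h
  · rcases hp.dvd_mul.1 h with h | h
    · rcases hp.dvd_mul.1 h with h | h
      · rcases hp.dvd_mul.1 h with h | h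
        · rcases hp.dvd_mul.1 h with h | h
          · rcases hp.dvd_mul.1 h with h | h
            · exact Or.inl (key (by norm_num) (hp.dvd_of_dvd_pow h))
            · exact Or.inr (Or.inl (key (by norm_num) (hp.dvd_of_dvd_pow h)))
          · exact Or.inr (Or.inr (Or.inl (key (by norm_num) h)))
        · exact Or.inr (Or.inr (Or.inr (Or.inl (key (by norm_num) (hp.dvd_of_dvd_pow h)))))
      · exact Or.inr (Or.inr (Or.inr (Or.inr (Or.inl (key (by norm_num) h)))))
    · exact Or.inr (Or.inr (Or.inr (Or.inr (Or.inr (Or.inl (key (by norm_num) h))))))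
  · exact Or.inr (Or.inr (Or.inr (Or.inr (Or.inr (Or.inr (key (by norm_num) h))))))

theorem cent_le {g : ON} (hg : g ≠ 1) : Nat.card (centralizer ({g} : Set ON)) ≤ 175616 := by
  have hfin := finite_ON
  obtain ⟨p, hp, hpd⟩ := Nat.exists_prime_and_dvd (n := orderOf g) (fun h => hg (orderOf_eq_one_iff.1 h))
  obtain ⟨k, hk⟩ : ∃ k, orderOf (g ^ k) = p := ⟨orderOf g / p, orderOf_pow_orderOf_div (orderOf_pos g).ne' hpd⟩
  refine (H65.Ore.card_centralizer_pow_le g k).trans ?_
  have hd : p ∣ 460815505920 := by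
    rw [← hk, ← KFacts.ON.OneClass.card_ON]
    exact orderOf_dvd_natCard _
  rcases cases_on hp hd with rfl | rfl | rfl | rfl | rfl | rfl | rfl
  · obtain ⟨c, hc⟩ := isConj_iff.1 (KFacts.ON.OneClass.one_class (w := g ^ k)
      (by rw [← pow_two]; have := pow_orderOf_eq_one (g ^ k); rwa [hk] at this)
      (by intro h; rw [h, orderOf_one] at hk; norm_num at hk))
    have h1 : Nat.card (centralizer ({g ^ k} : Set ON)) = Nat.card (centralizer ({on .f} : Set ON)) :=
      Blocks.SylowIn.card_centralizer_of_isConj (isConj_iff.2 ⟨c, hc⟩).symm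
    rw [h1, card_cent]
    norm_num
  · rw [card_cent_three hk]; norm_num
  · rw [card_cent_five hk]; norm_num
  · exact cent_seven hk
  · rw [card_cent_eleven hk]; norm_num
  · rw [card_cent_nineteen hk]; norm_num
  · rw [(thirtyone hk).1]; norm_num

theorem not_comm : ¬ IsMulCommutative ON := by
  intro h
  have h1 := H210.On7.px1
  rw [h.is_comm.comm H210.On7.p0 H210.On7.x1, mul_inv_cancel_right] at h1
  have h3 := H210.On7.px2
  rw [h.is_comm.comm H210.On7.p0 H210.On7.x2, mul_inv_cancel_right, ← h1] at h3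
  have h4 : H210.On7.x1 ^ 2 = 1 := by rw [pow_two]; nth_rewrite 1 [h3]; exact inv_mul_cancel _
  exact H210.On7.x1_ne (R04.ThreeAbs.eq_one_of_sq_cube h4 H210.On7.x1_pow)

theorem prd_on {x y : ON} (hx : orderOf x = 11) (hy : orderOf y = 11) {g : ON} (hg : g ≠ 1) : Prd x y g := by
  have hfin := finite_ON
  have hs : IsSimpleGroup ON := hON.1
  obtain ⟨Δ⟩ := H210.On7.exists_data
  exact prd not_comm Δ hx hy (cent_le hg)

theorem allC_on : AllC ON := by
  intro g
  by_cases hg : g = 1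
  · rw [hg]; exact isC_one
  obtain ⟨x, hx, -⟩ := exists_eleven
  exact (prd_on hx (by rw [orderOf_inv, hx]) hg).comm

/-- an involution inverting an element of order 11 -/
theorem exists_inverted : ∃ x t : ON, orderOf x = 11 ∧ t * t = 1 ∧ t * x * t⁻¹ = x⁻¹ := by
  have hfin := finite_ON
  obtain ⟨y, w, hy, hw, hyw, -⟩ := of_J1 (p := 11) (m := 10) (by norm_num) (by norm_num) H389.JFacts.frob_eleven
  have ht : orderOf (w ^ 5) = 2 := by
    rw [orderOf_pow' _ (by norm_num), hw]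
    norm_num
  have ht2 : w ^ 5 * w ^ 5 = 1 := by
    rw [← pow_two, ← ht, pow_orderOf_eq_one]
  have hn : ∀ k : ℕ, w ^ k * y * (w ^ k)⁻¹ ∈ zpowers y := by
    intro k
    induction k with
    | zero => simp
    | succ k ih =>
      obtain ⟨i, hi⟩ := ih
      have hi' : y ^ i = w ^ k * y * (w ^ k)⁻¹ := hi
      have h1 : w ^ (k + 1) * y * (w ^ (k + 1))⁻¹ = (w * y * w⁻¹) ^ i := by
        rw [conj_zpow, hi', pow_succ']
        group
      rw [h1]
      exact zpow_mem hyw i
  refine ⟨y, w ^ 5, hy, ht2, inverts (by norm_num) hy ht2 (hn 5) fun h => ?_⟩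
  have h1 := dvd_cent (x := y) (y := w ^ 5) h
  rw [card_cent_eleven hy, ht] at h1
  norm_num at h1

theorem inv4_on : Inv4 ON := by
  intro g
  by_cases hg : g = 1
  · exact ⟨1, 1, 1, 1, by simp, by simp, by simp, by simp, by simp [hg]⟩
  obtain ⟨x, t, hx, ht, hi⟩ := exists_inverted
  exact i4_of_prd ht hi (prd_on hx hx hg)

/-- **S2443, the row of O'N** -/
theorem ore_on {S : Type*} [Group S] (h : Spor.IsoON S) : AllC S := by
  obtain ⟨e⟩ := h
  exact allC_on.congr e.symm

/-- **S4171, the row of O'N** -/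
theorem four_on {S : Type*} [Group S] (h : Spor.IsoON S) : Inv4 S := by
  obtain ⟨e⟩ := h
  intro x
  obtain ⟨a, b, c, d, ha, hb, hc, hd, hx⟩ := inv4_on (e x)
  refine ⟨e.symm a, e.symm b, e.symm c, e.symm d, ?_, ?_, ?_, ?_, ?_⟩
  · rw [← map_mul, ha, map_one]
  · rw [← map_mul, hb, map_one]
  · rw [← map_mul, hc, map_one]
  · rw [← map_mul, hd, map_one]
  · rw [← map_mul, ← map_mul, ← map_mul, ← hx, e.symm_apply_apply]

end Cfsg.Agent.H535.Ore.ON
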