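import Cfsg.Agent.H535.K4.ONCert

/-!
# Certificates: the O'Nan group has no characters of degree 32, 837, 1178 (helper535)

As in `H535/K4/ONCert`, with the condition that the degree divides `F * |y^G|`, `|y^G| = 2560086144`. The
nonprincipal characters of degree `± 1 (11)` have degree at least 3255.
-/

set_option autoImplicit false

namespace Cfsg.Agent.H535.Ore.ON

open Cfsg.Agent.H653.Sieve (allDiv facProd Cf)
open Cfsg.Agent.H653.Sys
open Cfsg.Agent.H535.K4.ON

/-- the family with the integrality of the central character at an element of order 5 -/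
def fam3i : Fam where
  cols := fam3.cols
  vals d := (fam3.vals d).filter fun l => Nat.beq (((l.getD 1 0).natAbs * 2560086144) % d) 0

/-- the families -/
def Gs : List Fam := [primeFam 31 wl31 62 2 true 2, primeFam 19 wl19 57 3 true 3, primeFam 11 wl11 11 0 false 1, fam3i]

/-- certificate -/
def a_32 : ℤ := -7
/-- certificate -/
def cs_32 : List Cf := [⟨-1700150, -87072448816, 0, [-182934433662, 134500609695, 21195433016, -51102288667,
    82737924192]⟩, ⟨-232209, 112501115230, 1669478756701, [238015904701, 26356391611, 197074591338, 107581742963]⟩,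
    ⟨-4939722, -490771984237, 0, [-6189002086, -121322081567, 372602450494]⟩, ⟨149360, 2182771599, 0, [19697743907,
    -8306723954]⟩, ⟨2883243, -29991621259, 0, [-119967605064]⟩, ⟨-536844, 96446146594, 0, []⟩]
/-- certificate -/
def m_32 : ℤ := -5398491826603

/-- certificate -/
def a_837 : ℤ := 1
/-- certificate -/
def cs_837 : List Cf := [⟨-306446, -32533255311, 0, [10586005892, -157057293967, -1013807964, -19093568939,
    -33829824052]⟩, ⟨-354718, 23691581771, 66583080897, [122353446070, 4705038277, 55705714428, 18364006427]⟩,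
    ⟨-826409, -183369257210, 0, [548309653, -45330093597, -123783407400]⟩, ⟨5162, 201933284, 0, [2838878,
    -4957731017]⟩, ⟨-141169, -11205899052, 0, [-89225495751]⟩, ⟨-339895, 53711964104, 0, []⟩]
/-- certificate -/
def m_837 : ℤ := -2017061829308

/-- certificate -/
def a_1178 : ℤ := 2
/-- certificate -/
def cs_1178 : List Cf := [⟨6789, -7432508160, 0, [10406634688, -35811175680, -247184699, -4362093667, -4983384080]⟩,
    ⟨-174663, 2806461248, 0, [19405923706, -656578161, 13960608764, 4709030266]⟩, ⟨90975, -41892318720, 0,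
    [-231141218, -10356058357, -15012639759]⟩, ⟨11042, 24625737, 0, [1012137408, -1054457243]⟩, ⟨125259, -2560086144,
    0, [-12668787920]⟩, ⟨-147271, 6974415496, 0, []⟩]
/-- certificate -/
def m_1178 : ℤ := -460815505920


theorem cert_32 : certOK NN a_32 cs_32 [⟨fun d => Nat.beq d 32, m_32, m_32⟩] Gs = true := by decide +kernel

theorem all_32 : allDiv NN (okD NN a_32 cs_32 [⟨fun d => Nat.beq d 32, m_32, m_32⟩] Gs (fun _ => false)) facs 1 = true := by
  decide +kernel

theorem cert_837 : certOK NN a_837 cs_837 [⟨fun d => Nat.beq d 837, m_837, m_837⟩] Gs = true := by decide +kernel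

theorem all_837 : allDiv NN (okD NN a_837 cs_837 [⟨fun d => Nat.beq d 837, m_837, m_837⟩] Gs (fun _ => false)) facs 1 = true := by
  decide +kernel

theorem cert_1178 : certOK NN a_1178 cs_1178 [⟨fun d => Nat.beq d 1178, m_1178, m_1178⟩] Gs = true := by decide +kernel

theorem all_1178 : allDiv NN (okD NN a_1178 cs_1178 [⟨fun d => Nat.beq d 1178, m_1178, m_1178⟩] Gs (fun _ => false)) facs 1 = true := by
  decide +kernel

/-- the list of the candidates -/
def chk (d : ℕ) : Bool :=
  Nat.ble NN (d * d) || Nat.beq d 1 || Nat.beq d 32 || Nat.beq d 837 || Nat.beq d 1178 || Nat.ble 3255 d ||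
    !(Nat.beq (d % 11) 1 || Nat.beq (d % 11) 10) || allV Gs d fun _ => false

theorem chk_all : allDiv NN chk facs 1 = true := by decide +kernel

end Cfsg.Agent.H535.Ore.ON
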